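import Mathlib

/-! Automorphisms of power series rings given by `X i ↦ X i * u i` (`u i` units) and `X k ↦ X k + w`. -/

namespace Groth.Agent.PSAut

open MvPowerSeries Finset

variable {R : Type*} [CommRing R] {σ : Type*} [Fintype σ] [DecidableEq σ]

local notation "PS" => MvPowerSeries σ R

theorem hasSubst_mulX (u : σ → PS) : HasSubst fun i => X i * u i :=
  hasSubst_of_constantCoeff_zero fun i => by simp

theorem prod_monomial_pow (d : σ →₀ ℕ) :
    (∏ i, (X i : PS) ^ d i) = monomial d 1 := by
  have h := monomial_one_eq (R := R) (e := d)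
  rw [h, Finsupp.prod_fintype]
  simp

theorem coeff_subst_mulX (u : σ → PS) (f : PS) (e : σ →₀ ℕ) :
    coeff e (subst (fun i => X i * u i) f) =
      ∑ d ∈ Iic e, coeff d f * coeff (e - d) (∏ i, u i ^ d i) := by
  have h : ∀ d : σ →₀ ℕ, coeff d f • coeff e (d.prod fun s n => (X s * u s) ^ n) =
      if d ≤ e then coeff d f * coeff (e - d) (∏ i, u i ^ d i) else 0 := by
    intro d
    rw [Finsupp.prod_fintype _ _ (by simp)]
    simp only [mul_pow, Finset.prod_mul_distrib, prod_monomial_pow, coeff_monomial_mul, one_mul,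
      smul_eq_mul, mul_ite, mul_zero]
  rw [coeff_subst (hasSubst_mulX u)]
  simp only [h]
  rw [finsum_eq_sum_of_support_subset _ (s := Iic e) (by
    intro d hd
    simp only [Function.mem_support, ne_eq] at hd
    simp only [coe_Iic, Set.mem_Iic]
    by_contra hle
    simp [hle] at hd)]
  exact Finset.sum_congr rfl fun d hd => by simp [Finset.mem_Iic.mp hd]

/-- diagonal coefficient -/
theorem isUnit_diag {u : σ → PS} (hu : ∀ i, IsUnit (constantCoeff (u i))) (e : σ →₀ ℕ) :
    IsUnit (coeff 0 (∏ i, u i ^ e i)) := by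
  rw [coeff_zero_eq_constantCoeff_apply, map_prod]
  refine IsUnit.prod_univ_iff.mpr fun i => ?_
  rw [map_pow]; exact (hu i).pow _

theorem coeff_subst_mulX_split (u : σ → PS) (f : PS) (e : σ →₀ ℕ) :
    coeff e (subst (fun i => X i * u i) f) =
      coeff e f * coeff 0 (∏ i, u i ^ e i) +
        ∑ d ∈ Iio e, coeff d f * coeff (e - d) (∏ i, u i ^ d i) := by
  classical
  rw [coeff_subst_mulX]
  have hI : (Iic e : Finset (σ →₀ ℕ)) = insert e (Iio e) := by
    ext d; simp [le_iff_lt_or_eq, or_comm]
  rw [hI, Finset.sum_insert (by simp)]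
  simp

theorem subst_mulX_bijective {u : σ → PS} (hu : ∀ i, IsUnit (constantCoeff (u i))) :
    Function.Bijective (subst (R := R) fun i => X i * u i) := by
  constructor
  · intro f g hfg
    ext e
    induction e using WellFoundedLT.induction with
    | ind e ih =>
      have h1 := congrArg (coeff e) hfg
      rw [coeff_subst_mulX_split, coeff_subst_mulX_split] at h1
      have h2 : ∑ d ∈ Iio e, coeff d f * coeff (e - d) (∏ i, u i ^ d i) =
          ∑ d ∈ Iio e, coeff d g * coeff (e - d) (∏ i, u i ^ d i) :=
        Finset.sum_congr rfl fun d hd => by rw [ih d (Finset.mem_Iio.mp hd)]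
      rw [h2, add_left_inj] at h1
      exact (isUnit_diag hu e).mul_left_injective h1
  · intro g
    let c : (σ →₀ ℕ) → R := (wellFounded_lt (α := σ →₀ ℕ)).fix fun e rec =>
      Ring.inverse (coeff 0 (∏ i, u i ^ e i)) *
        (coeff e g - ∑ d ∈ (Iio e).attach,
          rec d.1 (Finset.mem_Iio.mp d.2) * coeff (e - d.1) (∏ i, u i ^ d.1 i))
    let F : PS := c
    refine ⟨F, ?_⟩
    ext e
    rw [coeff_subst_mulX_split]
    have hc : ∀ d, coeff d F = c d := fun d => rfl
    simp only [hc]
    conv_lhs => arg 1; arg 1; rw [show c e = _ from WellFounded.fix_eq _ _ e]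
    have hs : ∑ d ∈ (Iio e).attach, c d.1 * coeff (e - d.1) (∏ i, u i ^ d.1 i) =
        ∑ d ∈ Iio e, c d * coeff (e - d) (∏ i, u i ^ d i) :=
      Finset.sum_attach (Iio e) fun d => c d * coeff (e - d) (∏ i, u i ^ d i)
    rw [show (∑ d ∈ Iio e, c d * coeff (e - d) (∏ i, u i ^ d i)) = _ from hs.symm]
    rw [mul_comm (Ring.inverse _), mul_assoc, Ring.inverse_mul_cancel _ (isUnit_diag hu e)]
    ring

/-- The automorphism `X i ↦ X i * u i`. -/
noncomputable def mulXEquiv (u : σ → PS) (hu : ∀ i, IsUnit (constantCoeff (u i))) : PS ≃ₐ[R] PS :=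
  AlgEquiv.ofBijective (substAlgHom (hasSubst_mulX u))
    (by rw [coe_substAlgHom]; exact subst_mulX_bijective hu)

@[simp] theorem mulXEquiv_X (u : σ → PS) (hu : ∀ i, IsUnit (constantCoeff (u i))) (i : σ) :
    mulXEquiv u hu (X i) = X i * u i := substAlgHom_X (hasSubst_mulX u) i

theorem hasSubst_addX (k : σ) (w : PS) (hw : constantCoeff w = 0) :
    HasSubst fun i => X i + (if i = k then w else 0) :=
  hasSubst_of_constantCoeff_zero fun i => by by_cases h : i = k <;> simp [h, hw]

/-- In characteristic two, `X k ↦ X k + w` with `w` fixed by the substitution is an involution. -/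
noncomputable def addXEquiv [CharP R 2] (k : σ) (w : PS) (hw : constantCoeff w = 0)
    (hfix : substAlgHom (R := R) (hasSubst_addX k w hw) w = w) : PS ≃ₐ[R] PS :=
  AlgEquiv.ofBijective (substAlgHom (hasSubst_addX k w hw)) (by
    refine Function.Involutive.bijective fun f => ?_
    rw [substAlgHom_comp_substAlgHom_apply]
    have h2 : w + w = 0 := by
      ext n; simp [CharTwo.add_self_eq_zero]
    rw [coe_substAlgHom] at hfix
    have ha : (fun i => subst (fun i => X i + (if i = k then w else 0))
        (X i + (if i = k then w else 0) : PS)) = (X : σ → PS) := by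
      funext i
      rw [subst_add (hasSubst_addX k w hw), subst_X (hasSubst_addX k w hw)]
      by_cases h : i = k
      · simp only [h, if_true, hfix, add_assoc, h2, add_zero]
      · simp only [h, if_false, add_zero, ← substAlgHom_apply (hasSubst_addX k w hw), map_zero]
    simp only [substAlgHom_apply, ha, subst_self, id])

theorem addXEquiv_X [CharP R 2] (k : σ) (w : PS) (hw : constantCoeff w = 0)
    (hfix : substAlgHom (R := R) (hasSubst_addX k w hw) w = w) (i : σ) :
    addXEquiv k w hw hfix (X i) = X i + (if i = k then w else 0) := substAlgHom_X (hasSubst_addX k w hw) i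

end Groth.Agent.PSAut
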